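import Cfsg.Agent.Lib.Forms.Symp
import Mathlib.FieldTheory.Perfect

/-!
Non-degenerate symmetric bilinear forms over perfect fields of characteristic two, and their
isometry groups (helper10).
-/

set_option autoImplicit false

namespace Cfsg.Agent.Classical10.SpInvolTwo

open Cfsg.Agent.Symplectic
open LinearMap (BilinForm)
open Module (finrank)

universe u v w

variable {F : Type*} [Field F]

/-- Isometries between two bilinear forms. -/
abbrev Isom {M N : Type*} [AddCommGroup M] [Module F M] [AddCommGroup N] [Module F N]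
    (β : BilinForm F M) (γ : BilinForm F N) :=
  {e : M ≃ₗ[F] N // ∀ x y, γ (e x) (e y) = β x y}

theorem card_isom_congr {M N : Type*} [AddCommGroup M] [Module F M] [AddCommGroup N] [Module F N]
    {β : BilinForm F M} {γ : BilinForm F N} (e : Isom β γ) :
    Nat.card (Isom γ γ) = Nat.card (Isom β β) :=
  Nat.card_congr
    { toFun := fun g => ⟨e.1.trans (g.1.trans e.1.symm), fun x y => by
        rw [← e.2, ← e.2 x y]; simp [g.2]⟩
      invFun := fun g => ⟨e.1.symm.trans (g.1.trans e.1), fun x y => by
        simp only [LinearEquiv.trans_apply, e.2, g.2]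
        rw [← e.2]; simp⟩
      left_inv := fun g => Subtype.ext (LinearEquiv.ext fun x => by simp)
      right_inv := fun g => Subtype.ext (LinearEquiv.ext fun x => by simp) }

/-- The model of odd dimension. -/
noncomputable def oddForm (F : Type*) [Field F] (k : ℕ) : BilinForm F (F × Vec k F) :=
  LinearMap.mk₂ F (fun p p' => p.1 * p'.1 + Cfsg.sympForm k F p.2 p'.2)
    (fun p p' r => by simp only [Prod.fst_add, Prod.snd_add, sympForm_add_left]; ring)
    (fun c p r => by simp only [Prod.smul_fst, Prod.smul_snd, sympForm_smul_left, smul_eq_mul]; ring)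
    (fun p r r' => by simp only [Prod.fst_add, Prod.snd_add, sympForm_add_right]; ring)
    (fun c p r => by simp only [Prod.smul_fst, Prod.smul_snd, sympForm_smul_right, smul_eq_mul]; ring)

theorem oddForm_apply (k : ℕ) (p p' : F × Vec k F) :
    oddForm F k p p' = p.1 * p'.1 + Cfsg.sympForm k F p.2 p'.2 := rfl

/-- The model of even dimension which is not alternating. -/
noncomputable def evenForm (F : Type*) [Field F] (k : ℕ) : BilinForm F ((F × F) × Vec k F) :=
  LinearMap.mk₂ F (fun p p' => p.1.1 * p'.1.2 + p.1.2 * p'.1.1 + p.1.2 * p'.1.2 +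
      Cfsg.sympForm k F p.2 p'.2)
    (fun p p' r => by simp only [Prod.fst_add, Prod.snd_add, sympForm_add_left]; ring)
    (fun c p r => by simp only [Prod.smul_fst, Prod.smul_snd, sympForm_smul_left, smul_eq_mul]; ring)
    (fun p r r' => by simp only [Prod.fst_add, Prod.snd_add, sympForm_add_right]; ring)
    (fun c p r => by simp only [Prod.smul_fst, Prod.smul_snd, sympForm_smul_right, smul_eq_mul]; ring)

theorem evenForm_apply (k : ℕ) (p p' : (F × F) × Vec k F) :
    evenForm F k p p' = p.1.1 * p'.1.2 + p.1.2 * p'.1.1 + p.1.2 * p'.1.2 +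
      Cfsg.sympForm k F p.2 p'.2 := rfl

theorem sympForm_zero_left' (k : ℕ) (u : Vec k F) : Cfsg.sympForm k F (0 : Vec k F) u = 0 := by
  rw [show (0 : Vec k F) = (0 : F) • (0 : Vec k F) by simp, sympForm_smul_left, zero_mul]

theorem sympForm_zero_right' (k : ℕ) (u : Vec k F) : Cfsg.sympForm k F u (0 : Vec k F) = 0 := by
  rw [sympForm_swap, sympForm_zero_left', neg_zero]

/-- An alternating, non-degenerate subspace is a symplectic space. -/
theorem exists_symplectic_map {W : Type*} [AddCommGroup W] [Module F W] [FiniteDimensional F W]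
    (B : BilinForm F W) (P : Submodule F W) (halt : ∀ x ∈ P, B x x = 0)
    (hnd : ∀ x ∈ P, (∀ y ∈ P, B x y = 0) → x = 0) :
    ∃ (k : ℕ) (j : Vec k F →ₗ[F] W), finrank F P = 2 * k ∧ Function.Injective j ∧
      (∀ x, x ∈ P ↔ ∃ u, j u = x) ∧ ∀ u v, B (j u) (j v) = Cfsg.sympForm k F u v := by
  classical
  let BP : BilinForm F P := B.restrict P
  have hA : BP.IsAlt := fun x => halt x.1 x.2
  have hnd' : ∀ w ∈ (⊤ : Submodule F P), (∀ v ∈ (⊤ : Submodule F P), BP w v = 0) → w = 0 :=
    fun w _ h => Subtype.ext (hnd w.1 w.2 fun y hy => h ⟨y, hy⟩ trivial)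
  obtain ⟨k, e, f, he, hf, hef, hee, hff, hspan⟩ := Forms.exists_symplectic_family BP hA ⊤ hnd'
  have hk := Forms.finrank_eq_of_symplectic_family BP hA ⊤ e f he hf hef hee hff hspan
  rw [finrank_top] at hk
  let Φ : Vec k F →ₗ[F] P := Fintype.linearCombination F (Sum.elim f e)
  have hfe : ∀ i j, BP (f i) (e j) = if i = j then -1 else 0 := fun i j => by
    rw [← LinearMap.IsAlt.neg hA (e j) (f i), hef]
    by_cases h : i = j
    · subst h; simp
    · rw [if_neg h, if_neg (Ne.symm h), neg_zero]
  have hΦ : ∀ u v, BP (Φ u) (Φ v) = Cfsg.sympForm k F u v := by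
    intro u v
    simp only [Φ, Fintype.linearCombination_apply, Fintype.sum_sum_type, Sum.elim_inl, Sum.elim_inr,
      map_add, map_sum, map_smul, LinearMap.add_apply, LinearMap.sum_apply, LinearMap.smul_apply,
      hef, hee, hff, hfe, smul_eq_mul, mul_ite, mul_zero, mul_one, mul_neg,
      Finset.sum_ite_eq', Finset.mem_univ, if_true, Finset.sum_const_zero, add_zero, zero_add,
      sympForm_eq_sum, Finset.sum_sub_distrib, Finset.sum_neg_distrib, Finset.mul_sum]
    simp only [mul_comm]
    ring
  have hinj : Function.Injective Φ := by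
    rw [injective_iff_map_eq_zero]
    intro u hu
    refine Forms.sympForm_left_cancel fun v => ?_
    rw [← hΦ, hu, map_zero, LinearMap.zero_apply]
  have hsurj : Function.Surjective Φ := by
    refine (LinearMap.injective_iff_surjective_of_finrank_eq_finrank ?_).1 hinj
    rw [Module.finrank_pi, Fintype.card_sum, Fintype.card_fin, hk]
    omega
  refine ⟨k, P.subtype.comp Φ, hk, Subtype.val_injective.comp hinj, fun x => ⟨fun hx => ?_, ?_⟩, hΦ⟩
  · obtain ⟨u, hu⟩ := hsurj ⟨x, hx⟩
    exact ⟨u, congrArg Subtype.val hu⟩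
  · rintro ⟨u, rfl⟩; exact (Φ u).2

section CharTwo

variable [CharP F 2] [PerfectRing F 2]

/-- The three kinds of non-degenerate symmetric forms. -/
theorem exists_model {W : Type*} [AddCommGroup W] [Module F W] [FiniteDimensional F W]
    (B : BilinForm F W) (hs : ∀ x y, B x y = B y x) (hnd : ∀ x, (∀ y, B x y = 0) → x = 0) :
    ((∀ x, B x x = 0) ∧ ∃ k, finrank F W = 2 * k ∧ Nonempty (Isom (Forms.sympBilin k F) B)) ∨
    ((∃ x, B x x ≠ 0) ∧ ∃ k, finrank F W = 2 * k + 1 ∧ Nonempty (Isom (oddForm F k) B)) ∨
    ((∃ x, B x x ≠ 0) ∧ ∃ k, finrank F W = 2 * k + 2 ∧ Nonempty (Isom (evenForm F k) B)) := by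
  classical
  by_cases halt : ∀ x, B x x = 0
  · refine Or.inl ⟨halt, ?_⟩
    obtain ⟨k, j, hk, hji, hj, hB⟩ := exists_symplectic_map B ⊤ (fun x _ => halt x)
      (fun x _ h => hnd x fun y => h y trivial)
    rw [finrank_top] at hk
    refine ⟨k, hk, ⟨⟨LinearEquiv.ofBijective j ⟨hji, fun x => (hj x).1 trivial⟩, fun u v => ?_⟩⟩⟩
    rw [Forms.sympBilin_apply]
    exact hB u v
  push Not at halt
  refine Or.inr ?_
  -- the characteristic vector
  obtain ⟨L, hL⟩ : ∃ L : W →ₗ[F] F, ∀ x, L x ^ 2 = B x x := by
    have hsq : ∀ a : F, ((frobeniusEquiv F 2).symm a) ^ 2 = a := fun a =>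
      frobeniusEquiv_symm_pow_p F 2 a
    refine ⟨{ toFun := fun x => (frobeniusEquiv F 2).symm (B x x), map_add' := fun x y => ?_,
              map_smul' := fun c x => ?_ }, fun x => hsq _⟩
    · rw [← map_add (frobeniusEquiv F 2).symm]
      congr 1
      simp only [map_add, LinearMap.add_apply]
      linear_combination CharTwo.add_self_eq_zero (B x y) + (hs y x)
    · rw [RingHom.id_apply, smul_eq_mul]
      apply frobenius_inj F 2
      simp only [frobenius_def, mul_pow, hsq, map_smul, LinearMap.smul_apply, smul_eq_mul]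
      ring
  obtain ⟨e, he⟩ : ∃ e, ∀ x, B e x = L x := by
    have hBi : Function.Injective B := by
      rw [injective_iff_map_eq_zero]
      exact fun x h => hnd x fun y => by rw [h]; rfl
    obtain ⟨e, he⟩ := (LinearMap.injective_iff_surjective_of_finrank_eq_finrank
      (Subspace.dual_finrank_eq (K := F) (V := W)).symm).1 hBi L
    exact ⟨e, fun x => by rw [he]⟩
  have hdiag : ∀ x, B x x = B e x ^ 2 := fun x => by rw [he, hL]
  have hee : B e e * (B e e - 1) = 0 := by linear_combination -(hdiag e)
  rcases mul_eq_zero.1 hee with h0 | h1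
  · -- even dimension
    refine Or.inr ⟨halt, ?_⟩
    have he0 : e ≠ 0 := by
      rintro rfl
      obtain ⟨x, hx⟩ := halt
      exact hx (by rw [hdiag, map_zero, LinearMap.zero_apply]; ring)
    obtain ⟨y, hy⟩ : ∃ y, B e y ≠ 0 := by
      by_contra h; push Not at h; exact he0 (hnd e h)
    obtain ⟨f, hef⟩ : ∃ f, B e f = 1 :=
      ⟨(B e y)⁻¹ • y, by rw [map_smul, smul_eq_mul, inv_mul_cancel₀ hy]⟩
    have hff : B f f = 1 := by rw [hdiag, hef, one_pow]
    let P : Submodule F W := LinearMap.ker (B e) ⊓ LinearMap.ker (B f)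
    have hP : ∀ x, x ∈ P ↔ B e x = 0 ∧ B f x = 0 := fun x => Iff.rfl
    have hsplit : ∀ x, x - (B f x + B e x) • e - B e x • f ∈ P := fun x => by
      rw [hP]
      simp only [map_sub, map_smul, smul_eq_mul, h0, hef, hff, hs f e]
      refine ⟨by ring, ?_⟩
      linear_combination -(CharTwo.add_self_eq_zero (B e x))
    obtain ⟨k, j, hk, hji, hj, hB⟩ := exists_symplectic_map B P
      (fun x hx => by rw [hdiag, ((hP x).1 hx).1]; ring)
      (fun x hx h => hnd x fun y => by
        have := h _ (hsplit y)
        rw [map_sub, map_sub, map_smul, map_smul, hs x e, hs x f, ((hP x).1 hx).1,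
          ((hP x).1 hx).2, smul_zero, smul_zero, sub_zero, sub_zero] at this
        exact this)
    have hju : ∀ u, B e (j u) = 0 ∧ B f (j u) = 0 := fun u => (hP _).1 ((hj _).2 ⟨u, rfl⟩)
    let φ : (F × F) × Vec k F →ₗ[F] W :=
      ((LinearMap.id.smulRight e).coprod (LinearMap.id.smulRight f)).coprod j
    have hφ : ∀ p : (F × F) × Vec k F, φ p = p.1.1 • e + p.1.2 • f + j p.2 := fun p => rfl
    have hiso : ∀ p p', B (φ p) (φ p') = evenForm F k p p' := fun p p' => by
      rw [hφ, hφ, evenForm_apply]
      simp only [map_add, map_smul, LinearMap.add_apply, LinearMap.smul_apply, smul_eq_mul, h0, hef,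
        hff, hs f e, hju, hs (j _) e, hs (j _) f, hB]
      ring
    have hφb : Function.Bijective φ := by
      constructor
      · rw [injective_iff_map_eq_zero]
        intro p hp
        have e1 : p.1.2 = 0 := by
          have := hiso p ((1, 0), 0)
          rw [hp, map_zero, LinearMap.zero_apply, evenForm_apply, sympForm_zero_right'] at this
          linear_combination -this
        have e2 : p.1.1 = 0 := by
          have := hiso p ((0, 1), 0)
          rw [hp, map_zero, LinearMap.zero_apply, evenForm_apply, sympForm_zero_right', e1] at this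
          linear_combination -this
        rw [hφ, e1, e2, zero_smul, zero_smul, add_zero, zero_add] at hp
        exact Prod.ext (Prod.ext e2 e1) (hji (hp.trans (map_zero j).symm))
      · intro x
        obtain ⟨u, hu⟩ := (hj _).1 (hsplit x)
        exact ⟨((B f x + B e x, B e x), u), by rw [hφ, hu]; abel⟩
    refine ⟨k, ?_, ⟨⟨LinearEquiv.ofBijective φ hφb, fun p p' => hiso p p'⟩⟩⟩
    rw [← (LinearEquiv.ofBijective φ hφb).finrank_eq, Module.finrank_prod, Module.finrank_prod,
      Module.finrank_self, Module.finrank_pi, Fintype.card_sum, Fintype.card_fin]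
    omega
  · -- odd dimension
    refine Or.inl ⟨halt, ?_⟩
    have he1 : B e e = 1 := sub_eq_zero.1 h1
    have hsplit : ∀ x, x - B e x • e ∈ LinearMap.ker (B e) := fun x => by
      rw [LinearMap.mem_ker, map_sub, map_smul, he1, smul_eq_mul, mul_one, sub_self]
    obtain ⟨k, j, hk, hji, hj, hB⟩ := exists_symplectic_map B (LinearMap.ker (B e))
      (fun x hx => by rw [hdiag, LinearMap.mem_ker.1 hx]; ring)
      (fun x hx h => hnd x fun y => by
        have := h _ (hsplit y)
        rw [map_sub, map_smul, hs x e, LinearMap.mem_ker.1 hx, smul_zero, sub_zero] at this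
        exact this)
    have hju : ∀ u, B e (j u) = 0 := fun u => LinearMap.mem_ker.1 ((hj _).2 ⟨u, rfl⟩)
    let φ : F × Vec k F →ₗ[F] W := (LinearMap.id.smulRight e).coprod j
    have hφ : ∀ p : F × Vec k F, φ p = p.1 • e + j p.2 := fun p => rfl
    have hiso : ∀ p p', B (φ p) (φ p') = oddForm F k p p' := fun p p' => by
      rw [hφ, hφ, oddForm_apply]
      simp only [map_add, map_smul, LinearMap.add_apply, LinearMap.smul_apply, smul_eq_mul, he1,
        hju, hs (j _) e, hB]
      ring
    have hφb : Function.Bijective φ := by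
      constructor
      · rw [injective_iff_map_eq_zero]
        intro p hp
        have e1 : p.1 = 0 := by
          have := hiso p (1, 0)
          rw [hp, map_zero, LinearMap.zero_apply, oddForm_apply, sympForm_zero_right'] at this
          linear_combination -this
        rw [hφ, e1, zero_smul, zero_add] at hp
        exact Prod.ext e1 (hji (hp.trans (map_zero j).symm))
      · intro x
        obtain ⟨u, hu⟩ := (hj _).1 (hsplit x)
        exact ⟨(B e x, u), by rw [hφ, hu]; abel⟩
    refine ⟨k, ?_, ⟨⟨LinearEquiv.ofBijective φ hφb, fun p p' => hiso p p'⟩⟩⟩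
    rw [← (LinearEquiv.ofBijective φ hφb).finrank_eq, Module.finrank_prod,
      Module.finrank_self, Module.finrank_pi, Fintype.card_sum, Fintype.card_fin]
    omega

end CharTwo

/-! ### The isometry groups of the models -/

theorem card_isom_symp [Fintype F] (k : ℕ) :
    Nat.card (Isom (Forms.sympBilin k F) (Forms.sympBilin k F)) = Nat.card (Sp k F) := by
  classical
  refine Nat.card_congr (Equiv.ofBijective (fun g => Forms.spOfLinearMap g.1.toLinearMap
    fun u v => by simpa [Forms.sympBilin_apply] using g.2 u v) ⟨fun g g' e => ?_, fun G => ?_⟩)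
  · refine Subtype.ext (LinearEquiv.ext fun x => ?_)
    exact (Forms.spOfLinearMap_smul _ _ x).symm.trans
      ((congrArg (fun H : Sp k F => H • x) e).trans (Forms.spOfLinearMap_smul _ _ x))
  · let E : Vec k F ≃ₗ[F] Vec k F :=
      { toFun := fun x => G • x
        map_add' := smul_add G
        map_smul' := fun c x => smul_comm G c x
        invFun := fun x => G⁻¹ • x
        left_inv := inv_smul_smul G
        right_inv := smul_inv_smul G }
    exact ⟨⟨E, fun u v => by
        rw [Forms.sympBilin_apply, Forms.sympBilin_apply]; exact sympForm_smul_smul G u v⟩,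
      Symplectic.eq_of_smul_eq fun x => Forms.spOfLinearMap_smul _ _ x⟩

theorem eq_of_forall_sq [CharP F 2] {M : Type*} [AddCommGroup M] [Module F M] {β : BilinForm F M}
    (hnd : ∀ x, (∀ y, β x y = 0) → x = 0) {e e' : M}
    (h : ∀ y, β e y ^ 2 = β e' y ^ 2) : e = e' := by
  refine sub_eq_zero.1 (hnd _ fun y => ?_)
  rw [map_sub, LinearMap.sub_apply, sub_eq_zero]
  exact frobenius_inj F 2 (h y)

theorem oddForm_nondeg (k : ℕ) (p : F × Vec k F) (h : ∀ p', oddForm F k p p' = 0) : p = 0 := by
  refine Prod.ext ?_ (Forms.sympForm_left_cancel fun v => ?_)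
  · simpa [oddForm_apply, sympForm_zero_right'] using h (1, 0)
  · simpa [oddForm_apply] using h (0, v)

theorem evenForm_nondeg (k : ℕ) (p : (F × F) × Vec k F) (h : ∀ p', evenForm F k p p' = 0) :
    p = 0 := by
  have e1 : p.1.2 = 0 := by simpa [evenForm_apply, sympForm_zero_right'] using h ((1, 0), 0)
  have e2 : p.1.1 = 0 := by simpa [evenForm_apply, sympForm_zero_right', e1] using h ((0, 1), 0)
  exact Prod.ext (Prod.ext e2 e1) (Forms.sympForm_left_cancel fun v => by
    simpa [evenForm_apply] using h ((0, 0), v))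

theorem card_isom_odd [Fintype F] [CharP F 2] (k : ℕ) :
    Nat.card (Isom (oddForm F k) (oddForm F k)) = Nat.card (Sp k F) := by
  classical
  let θ : Sp k F → Isom (oddForm F k) (oddForm F k) := fun G =>
    ⟨{ toFun := fun p => (p.1, G • p.2)
       map_add' := fun p p' => Prod.ext rfl (smul_add G p.2 p'.2)
       map_smul' := fun c p => Prod.ext rfl (smul_comm G c p.2)
       invFun := fun p => (p.1, G⁻¹ • p.2)
       left_inv := fun p => Prod.ext rfl (inv_smul_smul G p.2)
       right_inv := fun p => Prod.ext rfl (smul_inv_smul G p.2) },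
      fun p p' => by
        show oddForm F k (p.1, G • p.2) (p'.1, G • p'.2) = _
        rw [oddForm_apply, oddForm_apply, sympForm_smul_smul G]⟩
  refine (Nat.card_congr (Equiv.ofBijective θ ⟨fun G G' e => Symplectic.eq_of_smul_eq fun x => ?_,
    fun g => ?_⟩)).symm
  · exact congrArg (fun g : Isom (oddForm F k) (oddForm F k) => (g.1 (0, x)).2) e
  have hfix : g.1 (1, 0) = (1, 0) := by
    refine eq_of_forall_sq (oddForm_nondeg k) fun y => ?_
    obtain ⟨x, rfl⟩ := g.1.surjective y
    rw [g.2, oddForm_apply (p := ((1, 0) : F × Vec k F)) (p' := g.1 x)]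
    have h := g.2 x x
    simp only [oddForm_apply, sympForm_self, sympForm_zero_left', add_zero, one_mul] at h ⊢
    linear_combination -h
  have hfst : ∀ x, (g.1 x).1 = x.1 := fun x => by
    have := g.2 (1, 0) x
    rw [hfix] at this
    simpa [oddForm_apply, sympForm_zero_left'] using this
  let h : Vec k F →ₗ[F] Vec k F := (LinearMap.snd F F _).comp (g.1.toLinearMap.comp (LinearMap.inr F F _))
  have hh : ∀ u, g.1 (0, u) = (0, h u) := fun u => Prod.ext (hfst _) rfl
  refine ⟨Forms.spOfLinearMap h fun u v => ?_, Subtype.ext (LinearEquiv.ext fun p => ?_)⟩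
  · have := g.2 (0, u) (0, v)
    rw [hh, hh] at this
    simpa [oddForm_apply] using this
  · refine (congrArg (Prod.mk p.1) (Forms.spOfLinearMap_smul h _ p.2)).trans ?_
    conv_rhs => rw [show p = p.1 • ((1, 0) : F × Vec k F) + (0, p.2) from
      Prod.ext (by simp) (by simp), map_add, map_smul, hfix, hh]
    refine Prod.ext ?_ ?_ <;> simp

theorem card_isom_even [Fintype F] [CharP F 2] (k : ℕ) :
    Nat.card (Isom (evenForm F k) (evenForm F k)) =
      Fintype.card F ^ (2 * k + 1) * Nat.card (Sp k F) := by
  classical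
  have key : Nat.card (Isom (evenForm F k) (evenForm F k)) =
      Nat.card ((F × Vec k F) × Sp k F) := by
    have hG : ∀ (G : Sp k F) (u : Vec k F), G • u = G • u := fun _ _ => rfl
    let T : (F × Vec k F) × Sp k F → ((F × F) × Vec k F →ₗ[F] (F × F) × Vec k F) := fun s =>
      { toFun := fun p => ((p.1.1 + p.1.2 * s.1.1 + Cfsg.sympForm k F (s.2 • p.2) s.1.2, p.1.2),
          p.1.2 • s.1.2 + s.2 • p.2)
        map_add' := fun p p' => by
          simp only [Prod.fst_add, Prod.snd_add, smul_add, sympForm_add_left, add_smul, add_mul,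
            Prod.mk_add_mk]
          refine Prod.ext (Prod.ext ?_ rfl) ?_
          · simp only; ring
          · simp only; abel
        map_smul' := fun c p => by
          simp only [Prod.smul_fst, Prod.smul_snd, smul_eq_mul, RingHom.id_apply, smul_comm s.2,
            sympForm_smul_left, Prod.smul_mk, smul_add, smul_smul]
          refine Prod.ext (Prod.ext ?_ rfl) rfl
          simp only; ring }
    have hT : ∀ s p p', evenForm F k (T s p) (T s p') = evenForm F k p p' := fun s p p' => by
      simp only [T, LinearMap.coe_mk, AddHom.coe_mk, evenForm_apply, sympForm_add_left,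
        sympForm_add_right, sympForm_smul_left, sympForm_smul_right, sympForm_self,
        sympForm_smul_smul s.2, sympForm_swap s.1.2 (s.2 • p'.2)]
      linear_combination (p.1.2 * p'.1.2 * s.1.1 +
        p'.1.2 * Cfsg.sympForm k F (s.2 • p.2) s.1.2) * (CharTwo.two_eq_zero (R := F))
    have hTi : ∀ s, Function.Injective (T s) := fun s => by
      rw [injective_iff_map_eq_zero]
      intro p hp
      refine evenForm_nondeg k p fun p' => ?_
      rw [← hT s, hp, map_zero, LinearMap.zero_apply]
    let θ : (F × Vec k F) × Sp k F → Isom (evenForm F k) (evenForm F k) := fun s =>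
      ⟨LinearEquiv.ofBijective (T s) ⟨hTi s, LinearMap.surjective_of_injective (hTi s)⟩, hT s⟩
    have hθ : ∀ s p, (θ s).1 p = T s p := fun s p => rfl
    refine (Nat.card_congr (Equiv.ofBijective θ ⟨?_, fun g => ?_⟩)).symm
    · rintro ⟨⟨a, u⟩, G⟩ ⟨⟨a', u'⟩, G'⟩ e
      have h1 := congrArg (fun g : Isom (evenForm F k) (evenForm F k) => g.1 ((0, 1), 0)) e
      simp only [hθ, T, LinearMap.coe_mk, AddHom.coe_mk, smul_zero, sympForm_zero_left', one_mul,
        add_zero, zero_add, one_smul, Prod.mk.injEq, and_true] at h1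
      obtain ⟨rfl, rfl⟩ := h1
      refine Prod.ext rfl (Symplectic.eq_of_smul_eq fun x => ?_)
      have h2 := congrArg (fun g : Isom (evenForm F k) (evenForm F k) => (g.1 ((0, 0), x)).2) e
      simpa [hθ, T] using h2
    have hfix : g.1 ((1, 0), 0) = ((1, 0), 0) := by
      refine eq_of_forall_sq (evenForm_nondeg k) fun y => ?_
      obtain ⟨x, rfl⟩ := g.1.surjective y
      have h := g.2 x x
      rw [g.2]
      simp only [evenForm_apply, sympForm_self, sympForm_zero_left', add_zero, one_mul, zero_mul]
        at h ⊢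
      linear_combination -h + (g.1 x).1.1 * (g.1 x).1.2 * (CharTwo.two_eq_zero (R := F))
        - x.1.1 * x.1.2 * (CharTwo.two_eq_zero (R := F))
    have hsnd : ∀ x, (g.1 x).1.2 = x.1.2 := fun x => by
      have := g.2 ((1, 0), 0) x
      rw [hfix] at this
      simpa [evenForm_apply, sympForm_zero_left'] using this
    set f' := g.1 ((0, 1), 0) with hf'
    let h : Vec k F →ₗ[F] Vec k F :=
      (LinearMap.snd F (F × F) _).comp (g.1.toLinearMap.comp (LinearMap.inr F (F × F) _))
    have hh : ∀ u, ∃ a : F, g.1 ((0, 0), u) = ((a, 0), h u) := fun u =>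
      ⟨_, Prod.ext (Prod.ext rfl (hsnd _)) rfl⟩
    have hf2 : f'.1.2 = 1 := hsnd _
    refine ⟨((f'.1.1, f'.2), Forms.spOfLinearMap h fun u v => ?_),
      Subtype.ext (LinearEquiv.ext fun p => ?_)⟩
    · have := g.2 ((0, 0), u) ((0, 0), v)
      obtain ⟨a, ha⟩ := hh u
      obtain ⟨b, hb⟩ := hh v
      rw [ha, hb] at this
      simpa [evenForm_apply] using this
    · have hp : p = p.1.1 • (((1, 0), 0) : (F × F) × Vec k F) + p.1.2 • ((0, 1), 0) + ((0, 0), p.2) :=
        Prod.ext (Prod.ext (by simp) (by simp)) (by simp)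
      obtain ⟨a, ha⟩ := hh p.2
      have hb : a = Cfsg.sympForm k F (h p.2) f'.2 := by
        have := g.2 ((0, 0), p.2) ((0, 1), 0)
        rw [← hf', ha] at this
        simp only [evenForm_apply, hf2, mul_one, zero_mul, add_zero, sympForm_zero_right'] at this
        linear_combination this - CharTwo.add_self_eq_zero (Cfsg.sympForm k F (h p.2) f'.2)
      subst hb
      conv_rhs => rw [hp, map_add, map_add, map_smul, map_smul, hfix, ← hf', ha]
      rw [hθ]
      simp only [T, LinearMap.coe_mk, AddHom.coe_mk]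
      rw [show Forms.spOfLinearMap h _ • p.2 = h p.2 from Forms.spOfLinearMap_smul _ _ _]
      refine Prod.ext (Prod.ext ?_ ?_) ?_ <;> simp [hf2] <;> ring
  rw [key, Nat.card_prod, Nat.card_prod, Nat.card_eq_fintype_card (α := F), Nat.card_fun,
    Nat.card_eq_fintype_card (α := F), Nat.card_sum, Nat.card_fin]
  ring

end Cfsg.Agent.Classical10.SpInvolTwo
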