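import Cfsg.Agent.Classical10.SpInvolTwo.Normal

/-!
Classes of involutions of symplectic groups in characteristic two (helper10).
-/

set_option autoImplicit false

namespace Cfsg.Agent.Classical10.SpInvolTwo

open Cfsg.Agent.Symplectic
open LinearMap (BilinForm)
open Module (finrank)

variable {F : Type*} [Field F] {m : ℕ}

/-- `rank (a - 1)`. -/
noncomputable def rk (a : Sp m F) : ℕ := finrank F (LinearMap.range (Invol2.nil a))

/-- `f (v, a v)` vanishes identically. -/
def IsAltType (a : Sp m F) : Prop := ∀ v, Invol2.formB a v v = 0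

variable [Fintype F] [CharP F 2]

theorem classify (a : Sp m F) (ha : a * a = 1) :
    (IsAltType a ∧ ∃ k r, rk a = 2 * k ∧ 2 * k + r = m ∧
      Nonempty (NormalForm (Forms.sympBilin k F) a r)) ∨
    (¬ IsAltType a ∧ ∃ k r, rk a = 2 * k + 1 ∧ 2 * k + 1 + r = m ∧
      Nonempty (NormalForm (oddForm F k) a r)) ∨
    (¬ IsAltType a ∧ ∃ k r, rk a = 2 * k + 2 ∧ 2 * k + 2 + r = m ∧
      Nonempty (NormalForm (evenForm F k) a r)) := by
  haveI : PerfectRing F 2 := PerfectRing.ofFiniteOfIsReduced 2 F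
  obtain ⟨W, hW, hnd, halt⟩ := exists_complement a ha
  have hdim : ∀ k, finrank F (Vec k F) = 2 * k := fun k => by
    rw [Module.finrank_pi, Fintype.card_sum, Fintype.card_fin, two_mul]
  rcases exists_model ((Invol2.formB a).restrict W) (fun x y => Invol2.formB_symm a ha x.1 y.1) hnd with
    ⟨h, k, hk, ⟨e⟩⟩ | ⟨⟨w, hw⟩, k, hk, ⟨e⟩⟩ | ⟨⟨w, hw⟩, k, hk, ⟨e⟩⟩
  · obtain ⟨r, hr, hE⟩ := exists_normalForm _ a ha (fun x y => by
        rw [Forms.sympBilin_apply, Forms.sympBilin_apply, sympForm_swap, CharTwo.neg_eq])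
      (fun x hx => Forms.sympForm_left_cancel fun v =>
        (Forms.sympBilin_apply _ _).symm.trans (hx v)) W hW e
    rw [hdim] at hr
    exact Or.inl ⟨halt h, k, r, hW.symm.trans hk, hr, hE⟩
  · obtain ⟨r, hr, hE⟩ := exists_normalForm _ a ha (fun x y => by
        rw [oddForm_apply, oddForm_apply, sympForm_swap x.2, CharTwo.neg_eq]; ring)
      (oddForm_nondeg k) W hW e
    rw [Module.finrank_prod, Module.finrank_self, hdim] at hr
    exact Or.inr (Or.inl ⟨fun h => hw (h w.1), k, r, hW.symm.trans hk, by omega, hE⟩)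
  · obtain ⟨r, hr, hE⟩ := exists_normalForm _ a ha (fun x y => by
        rw [evenForm_apply, evenForm_apply, sympForm_swap x.2, CharTwo.neg_eq]; ring)
      (evenForm_nondeg k) W hW e
    rw [Module.finrank_prod, Module.finrank_prod, Module.finrank_self, hdim] at hr
    exact Or.inr (Or.inr ⟨fun h => hw (h w.1), k, r, hW.symm.trans hk, by omega, hE⟩)

theorem even_rk_of_isAlt (a : Sp m F) (ha : a * a = 1) (h : IsAltType a) : Even (rk a) :=
  Invol2.finrank_range_even a ha h

omit [Fintype F] [CharP F 2] in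
theorem nil_conj (g a : Sp m F) (v : Vec m F) :
    Invol2.nil (g * a * g⁻¹) (g • v) = g • Invol2.nil a v := by
  rw [nil_eq, nil_eq, mul_smul, mul_smul, inv_smul_smul, smul_sub]

omit [Fintype F] [CharP F 2] in
theorem rk_conj (g a : Sp m F) : rk (g * a * g⁻¹) = rk a := by
  let G : Vec m F ≃ₗ[F] Vec m F :=
    { toFun := fun v => g • v
      map_add' := smul_add g
      map_smul' := fun c v => smul_comm g c v
      invFun := fun v => g⁻¹ • v
      left_inv := inv_smul_smul g
      right_inv := smul_inv_smul g }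
  have : LinearMap.range (Invol2.nil (g * a * g⁻¹)) =
      (LinearMap.range (Invol2.nil a)).map G.toLinearMap := by
    ext y
    constructor
    · rintro ⟨v, rfl⟩
      exact ⟨_, ⟨g⁻¹ • v, rfl⟩, by
        show g • Invol2.nil a (g⁻¹ • v) = _
        rw [← nil_conj, smul_inv_smul]⟩
    · rintro ⟨_, ⟨v, rfl⟩, rfl⟩
      exact ⟨g • v, nil_conj g a v⟩
  rw [rk, this, LinearEquiv.finrank_map_eq G]
  rfl

omit [Fintype F] [CharP F 2] in
theorem isAltType_conj (g a : Sp m F) (h : IsAltType a) : IsAltType (g * a * g⁻¹) := fun v => by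
  rw [Invol2.formB_apply, ← smul_inv_smul g v, nil_conj,
    show Cfsg.sympForm m F (g • g⁻¹ • v) (g • Invol2.nil a (g⁻¹ • v)) =
      Cfsg.sympForm m F (g⁻¹ • v) (Invol2.nil a (g⁻¹ • v)) from sympForm_smul_smul g _ _]
  exact h _

/-- The classes. -/
theorem isConj_iff_invariants (a b : Sp m F) (ha : a * a = 1) (hb : b * b = 1) :
    IsConj a b ↔ rk a = rk b ∧ (IsAltType a ↔ IsAltType b) := by
  constructor
  · intro h
    obtain ⟨g, rfl⟩ := isConj_iff.1 h
    refine ⟨(rk_conj g a).symm, fun h => isAltType_conj g a h, fun h => ?_⟩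
    have := isAltType_conj g⁻¹ _ h
    rwa [show g⁻¹ * (g * a * g⁻¹) * g⁻¹⁻¹ = a by group] at this
  · rintro ⟨hrk, halt⟩
    rcases classify a ha with ⟨h1, k, r, e1, e2, ⟨E⟩⟩ | ⟨h1, k, r, e1, e2, ⟨E⟩⟩ | ⟨h1, k, r, e1, e2, ⟨E⟩⟩ <;>
      rcases classify b hb with ⟨h2, k', r', f1, f2, ⟨E'⟩⟩ | ⟨h2, k', r', f1, f2, ⟨E'⟩⟩ |
        ⟨h2, k', r', f1, f2, ⟨E'⟩⟩ <;>
      first
        | exact absurd (halt.1 h1) h2
        | exact absurd (halt.2 h2) h1
        | omega
        | (obtain rfl : k = k' := by omega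
           obtain rfl : r = r' := by omega
           exact isConj_of_normalForm _ E E')

/-- A normal form is realised. -/
theorem exists_of_model {M : Type*} [AddCommGroup M] [Module F M] [FiniteDimensional F M]
    (β : BilinForm F M) (hs : ∀ x y, β x y = β y x) (hnd : ∀ x, (∀ y, β x y = 0) → x = 0)
    (hm : finrank F M ≤ m) :
    ∃ a : Sp m F, a * a = 1 ∧ rk a = finrank F M ∧ (IsAltType a ↔ ∀ x, β x x = 0) := by
  classical
  obtain ⟨r, rfl⟩ := Nat.exists_eq_add_of_le hm
  set s := finrank F M with hsdef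
  obtain ⟨k, j, hk, hji, hj, hjf⟩ := exists_symplectic_map (stdForm β r) ⊤
    (fun p _ => by
      rw [stdForm_apply, sympForm_self, hs p.1.2, CharTwo.add_self_eq_zero, add_zero])
    (fun p _ h => stdForm_nondeg β hs hnd r p fun p' => h p' trivial)
  rw [finrank_top, Module.finrank_prod, Module.finrank_prod, Module.finrank_pi, Fintype.card_sum,
    Fintype.card_fin, ← hsdef] at hk
  obtain rfl : k = s + r := by omega
  let J : Vec (s + r) F ≃ₗ[F] (M × M) × Vec r F :=
    LinearEquiv.ofBijective j ⟨hji, fun x => (hj x).1 trivial⟩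
  have hJ : ∀ p p', Cfsg.sympForm (s + r) F (J.symm p) (J.symm p') = stdForm β r p p' := fun p p' => by
    rw [← hjf]
    show stdForm β r (J (J.symm p)) (J (J.symm p')) = _
    rw [J.apply_symm_apply, J.apply_symm_apply]
  let L : Vec (s + r) F →ₗ[F] Vec (s + r) F :=
    J.symm.toLinearMap.comp ((LinearMap.id + stdNil F M r).comp J.toLinearMap)
  have hL : ∀ p, L (J.symm p) = J.symm (p + stdNil F M r p) := fun p => by simp [L]
  have hLf : ∀ u v, Cfsg.sympForm (s + r) F (L u) (L v) = Cfsg.sympForm (s + r) F u v := fun u v => by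
    obtain ⟨p, rfl⟩ := J.symm.surjective u
    obtain ⟨p', rfl⟩ := J.symm.surjective v
    rw [hL, hL, hJ, hJ, stdForm_apply, stdForm_apply]
    simp only [Prod.fst_add, Prod.snd_add, stdNil_apply, add_zero, map_add, LinearMap.add_apply]
    linear_combination (β p.1.1 p'.1.1) * (CharTwo.two_eq_zero (R := F))
  set a := Forms.spOfLinearMap L hLf with hadef
  have ha : ∀ p, a • J.symm p = J.symm (p + stdNil F M r p) := fun p =>
    (Forms.spOfLinearMap_smul _ _ _).trans (hL p)
  have hnil : ∀ p, Invol2.nil a (J.symm p) = J.symm (stdNil F M r p) := fun p => by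
    rw [nil_eq, ha, map_add, add_sub_cancel_left]
  refine ⟨a, Symplectic.eq_of_smul_eq fun v => ?_, ?_, ?_⟩
  · obtain ⟨p, rfl⟩ := J.symm.surjective v
    rw [mul_smul, one_smul, ha, ha]
    congr 1
    rw [map_add, show stdNil F M r (stdNil F M r p) = 0 from rfl, add_zero, add_assoc, ← two_smul F,
      CharTwo.two_eq_zero, zero_smul, add_zero]
  · let ι₂ : M →ₗ[F] Vec (s + r) F :=
      J.symm.toLinearMap.comp ((LinearMap.inl F (M × M) (Vec r F)).comp (LinearMap.inr F M M))
    have : LinearMap.range (Invol2.nil a) = LinearMap.range ι₂ := by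
      ext y
      constructor
      · rintro ⟨v, rfl⟩
        obtain ⟨p, rfl⟩ := J.symm.surjective v
        exact ⟨p.1.1, (hnil p).symm⟩
      · rintro ⟨x, rfl⟩
        exact ⟨J.symm ((x, 0), 0), hnil _⟩
    rw [rk, this, LinearMap.finrank_range_of_inj]
    exact J.symm.injective.comp ((Prod.mk_left_injective (0 : Vec r F)).comp
      (Prod.mk_right_injective (0 : M)))
  · have key : ∀ p, Invol2.formB a (J.symm p) (J.symm p) = β p.1.1 p.1.1 := fun p => by
      rw [Invol2.formB_apply, hnil, hJ, stdForm_apply, stdNil_apply]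
      simp [sympForm_zero_right']
    constructor
    · intro h x; simpa [key] using h (J.symm ((x, 0), 0))
    · intro h v
      obtain ⟨p, rfl⟩ := J.symm.surjective v
      rw [key, h]

omit [CharP F 2] in
theorem orderOf_two_iff (a : Sp m F) : orderOf a = 2 ↔ a * a = 1 ∧ 0 < rk a := by
  have hr : 0 < rk a ↔ a ≠ 1 := by
    rw [Nat.pos_iff_ne_zero, Ne, rk, Submodule.finrank_eq_zero, LinearMap.range_eq_bot]
    refine not_congr ⟨fun h => Symplectic.eq_of_smul_eq fun v => ?_, fun h => ?_⟩
    · have := LinearMap.congr_fun h v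
      rw [nil_eq, LinearMap.zero_apply, sub_eq_zero] at this
      rw [this, one_smul]
    · subst h; exact LinearMap.ext fun v => by rw [nil_eq, one_smul, sub_self]; rfl
  haveI : Fact (Nat.Prime 2) := ⟨Nat.prime_two⟩
  rw [orderOf_eq_prime_iff, sq, hr]

theorem card_classes (m : ℕ) :
    Nat.card {C : ConjClasses (Sp m F) // ∃ g, ConjClasses.mk g = C ∧ orderOf g = 2} =
      m + m / 2 := by
  classical
  have ex1 : ∀ i : Fin m, ∃ a : Sp m F, orderOf a = 2 ∧ rk a = i.1 + 1 ∧ ¬ IsAltType a := by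
    intro i
    rcases Nat.even_or_odd' i.1 with ⟨k, hk | hk⟩
    · obtain ⟨a, ha, hr, halt⟩ := exists_of_model (m := m) (oddForm F k) (fun x y => by
          rw [oddForm_apply, oddForm_apply, sympForm_swap x.2, CharTwo.neg_eq]; ring)
        (oddForm_nondeg k) (by
          rw [Module.finrank_prod, Module.finrank_self, Module.finrank_pi, Fintype.card_sum,
            Fintype.card_fin]
          omega)
      rw [Module.finrank_prod, Module.finrank_self, Module.finrank_pi, Fintype.card_sum,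
        Fintype.card_fin] at hr
      refine ⟨a, (orderOf_two_iff a).2 ⟨ha, by omega⟩, by omega, fun h => ?_⟩
      simpa [oddForm_apply, sympForm_self] using halt.1 h (1, 0)
    · obtain ⟨a, ha, hr, halt⟩ := exists_of_model (m := m) (evenForm F k) (fun x y => by
          rw [evenForm_apply, evenForm_apply, sympForm_swap x.2, CharTwo.neg_eq]; ring)
        (evenForm_nondeg k) (by
          rw [Module.finrank_prod, Module.finrank_prod, Module.finrank_self, Module.finrank_pi,
            Fintype.card_sum, Fintype.card_fin]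
          omega)
      rw [Module.finrank_prod, Module.finrank_prod, Module.finrank_self, Module.finrank_pi,
        Fintype.card_sum, Fintype.card_fin] at hr
      refine ⟨a, (orderOf_two_iff a).2 ⟨ha, by omega⟩, by omega, fun h => ?_⟩
      simpa [evenForm_apply, sympForm_self] using halt.1 h ((0, 1), 0)
  have ex2 : ∀ i : {i : Fin m // Odd i.1}, ∃ a : Sp m F, orderOf a = 2 ∧ rk a = i.1.1 + 1 ∧
      IsAltType a := by
    rintro ⟨i, k, hk⟩
    obtain ⟨a, ha, hr, halt⟩ := exists_of_model (m := m) (Forms.sympBilin (k + 1) F) (fun x y => by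
        rw [Forms.sympBilin_apply, Forms.sympBilin_apply, sympForm_swap, CharTwo.neg_eq])
      (fun x hx => Forms.sympForm_left_cancel fun v =>
        (Forms.sympBilin_apply _ _).symm.trans (hx v)) (by
        rw [Module.finrank_pi, Fintype.card_sum, Fintype.card_fin]; omega)
    rw [Module.finrank_pi, Fintype.card_sum, Fintype.card_fin] at hr
    exact ⟨a, (orderOf_two_iff a).2 ⟨ha, by omega⟩, by simp only; omega,
      halt.2 fun x => Forms.sympBilin_isAlt x⟩
  choose A hA using ex1
  choose B hB using ex2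
  let θ : Fin m ⊕ {i : Fin m // Odd i.1} →
      {C : ConjClasses (Sp m F) // ∃ g, ConjClasses.mk g = C ∧ orderOf g = 2} :=
    Sum.elim (fun i => ⟨ConjClasses.mk (A i), A i, rfl, (hA i).1⟩)
      (fun i => ⟨ConjClasses.mk (B i), B i, rfl, (hB i).1⟩)
  have hinv : ∀ g : Sp m F, orderOf g = 2 → g * g = 1 := fun g hg => ((orderOf_two_iff g).1 hg).1
  rw [← Nat.card_congr (Equiv.ofBijective θ ⟨?_, ?_⟩), Nat.card_sum, Nat.card_fin]
  · congr 1
    let e : {i : Fin m // Odd i.1} ≃ Fin (m / 2) :=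
      { toFun := fun i => ⟨i.1.1 / 2, by obtain ⟨k, hk⟩ := i.2; have := i.1.2; omega⟩
        invFun := fun j => ⟨⟨2 * j.1 + 1, by have := j.2; omega⟩, ⟨j.1, rfl⟩⟩
        left_inv := fun i => by
          obtain ⟨k, hk⟩ := i.2
          refine Subtype.ext (Fin.ext ?_)
          simp only
          omega
        right_inv := fun j => Fin.ext (by simp only; omega) }
    exact (Nat.card_congr e).trans (Nat.card_fin _)
  · have key : ∀ {a b : Sp m F}, orderOf a = 2 → orderOf b = 2 →
        ConjClasses.mk a = ConjClasses.mk b → rk a = rk b ∧ (IsAltType a ↔ IsAltType b) :=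
      fun ha hb h => (isConj_iff_invariants _ _ (hinv _ ha) (hinv _ hb)).1
        (ConjClasses.mk_eq_mk_iff_isConj.1 h)
    rintro (i | i) (j | j) e <;> simp only [θ, Sum.elim_inl, Sum.elim_inr, Subtype.mk.injEq] at e
    · obtain ⟨e1, -⟩ := key (hA i).1 (hA j).1 e
      rw [(hA i).2.1, (hA j).2.1] at e1
      exact congrArg Sum.inl (Fin.ext (by omega))
    · exact absurd ((key (hA i).1 (hB j).1 e).2.2 (hB j).2.2) (hA i).2.2
    · exact absurd ((key (hB i).1 (hA j).1 e).2.1 (hB i).2.2) (hA j).2.2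
    · obtain ⟨e1, -⟩ := key (hB i).1 (hB j).1 e
      rw [(hB i).2.1, (hB j).2.1] at e1
      exact congrArg Sum.inr (Subtype.ext (Fin.ext (by omega)))
  · rintro ⟨C, g, rfl, hg⟩
    obtain ⟨hgg, hpos⟩ := (orderOf_two_iff g).1 hg
    have hle : rk g ≤ m := by
      rcases classify g hgg with ⟨-, k, r, h1, h2, -⟩ | ⟨-, k, r, h1, h2, -⟩ | ⟨-, k, r, h1, h2, -⟩ <;>
        omega
    by_cases hg' : IsAltType g
    · obtain ⟨k, hk⟩ := even_rk_of_isAlt g hgg hg'
      refine ⟨Sum.inr ⟨⟨rk g - 1, by omega⟩, ⟨k - 1, by simp only; omega⟩⟩, Subtype.ext ?_⟩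
      refine ConjClasses.mk_eq_mk_iff_isConj.2
        ((isConj_iff_invariants _ _ (hinv _ (hB _).1) hgg).2 ⟨?_, iff_of_true (hB _).2.2 hg'⟩)
      rw [(hB _).2.1]; simp only; omega
    · refine ⟨Sum.inl ⟨rk g - 1, by omega⟩, Subtype.ext ?_⟩
      refine ConjClasses.mk_eq_mk_iff_isConj.2
        ((isConj_iff_invariants _ _ (hinv _ (hA _).1) hgg).2 ⟨?_, iff_of_false (hA _).2.2 hg'⟩)
      rw [(hA _).2.1]; simp only; omega

end Cfsg.Agent.Classical10.SpInvolTwo
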