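import Cfsg.Agent.Classical10.SpInvolTwo.Forms
import Cfsg.Agent.Invol2.Symp
import Cfsg.Agent.Lib.Symplectic.Card
import Mathlib.Data.Sym.Card

/-!
Normal forms of involutions of symplectic groups in characteristic two (helper10).
-/

set_option autoImplicit false

namespace Cfsg.Agent.Classical10.SpInvolTwo

open Cfsg.Agent.Symplectic
open LinearMap (BilinForm)
open Module (finrank)

variable {F : Type*} [Field F]
variable {M : Type*} [AddCommGroup M] [Module F M] (β : BilinForm F M)

/-- The standard form on `(M × M) × Vec r`. -/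
noncomputable def stdForm (r : ℕ) : BilinForm F ((M × M) × Vec r F) :=
  LinearMap.mk₂ F (fun p p' => β p.1.1 p'.1.2 + β p.1.2 p'.1.1 + Cfsg.sympForm r F p.2 p'.2)
    (fun p p' z => by
      simp only [Prod.fst_add, Prod.snd_add, map_add, LinearMap.add_apply, sympForm_add_left]; ring)
    (fun c p z => by
      simp only [Prod.smul_fst, Prod.smul_snd, map_smul, LinearMap.smul_apply, sympForm_smul_left,
        smul_eq_mul]; ring)
    (fun p z z' => by simp only [Prod.fst_add, Prod.snd_add, map_add, sympForm_add_right]; ring)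
    (fun c p z => by
      simp only [Prod.smul_fst, Prod.smul_snd, map_smul, sympForm_smul_right, smul_eq_mul]; ring)

theorem stdForm_apply (r : ℕ) (p p' : (M × M) × Vec r F) :
    stdForm β r p p' = β p.1.1 p'.1.2 + β p.1.2 p'.1.1 + Cfsg.sympForm r F p.2 p'.2 := rfl

/-- The standard nilpotent map. -/
def stdNil (F M : Type*) [Field F] [AddCommGroup M] [Module F M] (r : ℕ) :
    ((M × M) × Vec r F) →ₗ[F] (M × M) × Vec r F :=
  (LinearMap.inl F (M × M) (Vec r F)).comp ((LinearMap.inr F M M).comp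
    ((LinearMap.fst F M M).comp (LinearMap.fst F (M × M) (Vec r F))))

theorem stdNil_apply (r : ℕ) (p : (M × M) × Vec r F) : stdNil F M r p = ((0, p.1.1), 0) := rfl

/-- Normal forms of `a`. -/
abbrev NormalForm {m : ℕ} (a : Sp m F) (r : ℕ) :=
  {E : ((M × M) × Vec r F) ≃ₗ[F] Vec m F //
    (∀ p p', Cfsg.sympForm m F (E p) (E p') = stdForm β r p p') ∧
      ∀ p, Invol2.nil a (E p) = E (stdNil F M r p)}

theorem nil_eq {m : ℕ} (a : Sp m F) (v : Vec m F) : Invol2.nil a v = a • v - v :=
  Invol2.nil_apply a v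

theorem stdForm_nondeg (hs : ∀ x y, β x y = β y x) (hnd : ∀ x, (∀ y, β x y = 0) → x = 0) (r : ℕ)
    (p : (M × M) × Vec r F) (h : ∀ p', stdForm β r p p' = 0) : p = 0 := by
  refine Prod.ext (Prod.ext (hnd _ fun y => ?_) (hnd _ fun y => ?_))
    (Forms.sympForm_left_cancel fun v => ?_)
  · simpa [stdForm_apply, sympForm_zero_right'] using h ((0, y), 0)
  · simpa [stdForm_apply, sympForm_zero_right'] using h ((y, 0), 0)
  · simpa [stdForm_apply] using h ((0, 0), v)

theorem isConj_of_normalForm {m r : ℕ} {a b : Sp m F} (E : NormalForm β a r) (E' : NormalForm β b r) :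
    IsConj a b := by
  let L : Vec m F ≃ₗ[F] Vec m F := E.1.symm.trans E'.1
  have hL : ∀ u v, Cfsg.sympForm m F (L u) (L v) = Cfsg.sympForm m F u v := fun u v => by
    rw [show L u = E'.1 (E.1.symm u) from rfl, show L v = E'.1 (E.1.symm v) from rfl, E'.2.1, ← E.2.1, E.1.apply_symm_apply, E.1.apply_symm_apply]
  let g : Sp m F := Forms.spOfLinearMap L.toLinearMap hL
  have hg : ∀ v, g • v = L v := fun v => Forms.spOfLinearMap_smul _ _ v
  refine isConj_iff.2 ⟨g, ?_⟩
  rw [mul_inv_eq_iff_eq_mul]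
  refine Symplectic.eq_of_smul_eq fun v => ?_
  obtain ⟨p, rfl⟩ := E.1.surjective v
  have e : L (E.1 p) = E'.1 p := by simp [L]
  rw [mul_smul, mul_smul, hg, hg, e, sub_eq_iff_eq_add.1 (nil_eq a (E.1 p)).symm,
    sub_eq_iff_eq_add.1 (nil_eq b (E'.1 p)).symm, E.2.2, E'.2.2]
  simp [L]

theorem exists_complement [CharP F 2] {m : ℕ} (a : Sp m F) (ha : a * a = 1) :
    ∃ W : Submodule F (Vec m F),
      finrank F W = finrank F (LinearMap.range (Invol2.nil a)) ∧
      (∀ x : W, (∀ y : W, (Invol2.formB a).restrict W x y = 0) → x = 0) ∧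
      ((∀ x : W, (Invol2.formB a).restrict W x x = 0) → ∀ v, Invol2.formB a v v = 0) := by
  obtain ⟨W, hW⟩ := Submodule.exists_isCompl (LinearMap.ker (Invol2.nil a))
  have hker : ∀ k ∈ LinearMap.ker (Invol2.nil a), ∀ v, Invol2.formB a v k = 0 := fun k hk v => by
    rw [Invol2.formB_apply, LinearMap.mem_ker.1 hk, sympForm_zero_right']
  have hsplit : ∀ v : Vec m F, ∃ k ∈ LinearMap.ker (Invol2.nil a), ∃ w ∈ W, v = k + w := fun v => by
    obtain ⟨k, hk, w, hw, e⟩ := Submodule.mem_sup.mp
      (hW.sup_eq_top ▸ Submodule.mem_top : v ∈ LinearMap.ker (Invol2.nil a) ⊔ W)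
    exact ⟨k, hk, w, hw, e.symm⟩
  refine ⟨W, ?_, fun x h => ?_, fun h v => ?_⟩
  · have h1 := Submodule.finrank_add_eq_of_isCompl hW
    have h2 := LinearMap.finrank_range_add_finrank_ker (Invol2.nil a)
    exact Nat.add_left_cancel (h1.trans (h2.symm.trans (add_comm _ _)))
  · refine Subtype.ext (Submodule.disjoint_def.mp hW.disjoint x.1 ?_ x.2)
    rw [LinearMap.mem_ker]
    refine Invol2.eq_zero_of_sympForm fun v => ?_
    obtain ⟨k, hk, w, hw, rfl⟩ := hsplit v
    rw [← Invol2.formB_apply, Invol2.formB_symm a ha, map_add, hker k hk, zero_add]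
    exact h ⟨w, hw⟩
  · obtain ⟨k, hk, w, hw, rfl⟩ := hsplit v
    have e := h ⟨w, hw⟩
    simp only [map_add, LinearMap.add_apply, hker k hk, Invol2.formB_symm a ha k w, zero_add]
    exact e

theorem exists_normalForm [CharP F 2] [FiniteDimensional F M] {m : ℕ} (a : Sp m F) (ha : a * a = 1)
    (hs : ∀ x y, β x y = β y x) (hnd : ∀ x, (∀ y, β x y = 0) → x = 0)
    (W : Submodule F (Vec m F)) (hW : finrank F W = finrank F (LinearMap.range (Invol2.nil a)))
    (e : Isom β ((Invol2.formB a).restrict W)) :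
    ∃ r, finrank F M + r = m ∧ Nonempty (NormalForm β a r) := by
  classical
  set N := Invol2.nil a with hN
  let ψ₀ : M →ₗ[F] Vec m F := W.subtype.comp e.1.toLinearMap
  have hψ₀ : ∀ x y, Cfsg.sympForm m F (ψ₀ x) (N (ψ₀ y)) = β x y := fun x y => e.2 x y
  have hNN : ∀ v, N (N v) = 0 := fun v => by
    rw [hN, nil_eq, nil_eq, smul_sub, ← mul_smul, ha, one_smul,
      show v - a • v - (a • v - v) = (2 : F) • (v - a • v) by rw [two_smul]; abel,
      CharTwo.two_eq_zero, zero_smul]
  have hsa : ∀ u v, Cfsg.sympForm m F (N u) v = Cfsg.sympForm m F u (N v) := fun u v => by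
    rw [← Invol2.formB_apply, Invol2.formB_symm a ha, Invol2.formB_apply, sympForm_swap,
      CharTwo.neg_eq]
  -- make it totally isotropic
  set n := finrank F M
  let b : Module.Basis (Fin n) F M := Module.finBasis F M
  let T : BilinForm F M := LinearMap.BilinForm.toMatrix b |>.symm
    (Matrix.of fun i j => if i < j then Cfsg.sympForm m F (ψ₀ (b i)) (ψ₀ (b j)) else 0)
  let Φβ : M ≃ₗ[F] (M →ₗ[F] F) := LinearEquiv.ofBijective β
    ⟨(injective_iff_map_eq_zero β).2 fun x h => hnd x fun y => by rw [h]; rfl,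
      (LinearMap.injective_iff_surjective_of_finrank_eq_finrank
        (Subspace.dual_finrank_eq (K := F) (V := M)).symm).1
        ((injective_iff_map_eq_zero β).2 fun x h => hnd x fun y => by rw [h]; rfl)⟩
  let c : M →ₗ[F] M := Φβ.symm.toLinearMap.comp T
  have hc : ∀ x y, β (c x) y = T x y := fun x y => by
    show β (Φβ.symm (T x)) y = T x y
    exact LinearMap.congr_fun (Φβ.apply_symm_apply (T x)) y
  have hT : ∀ x y, T x y + T y x = Cfsg.sympForm m F (ψ₀ x) (ψ₀ y) := by
    have : T + T.flip = ((Forms.sympBilin m F).compl₁₂ ψ₀ ψ₀ : BilinForm F M) := by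
      refine LinearMap.BilinForm.ext_basis b fun i j => ?_
      have hij : ∀ i j, T (b i) (b j) =
          if i < j then Cfsg.sympForm m F (ψ₀ (b i)) (ψ₀ (b j)) else 0 := fun i j => by
        rw [← LinearMap.BilinForm.toMatrix_apply b, LinearEquiv.apply_symm_apply, Matrix.of_apply]
      show T (b i) (b j) + T (b j) (b i) = Forms.sympBilin m F (ψ₀ (b i)) (ψ₀ (b j))
      rw [Forms.sympBilin_apply, hij, hij]
      rcases lt_trichotomy i j with h | h | h
      · rw [if_pos h, if_neg h.asymm, add_zero]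
      · subst h; simp [sympForm_self]
      · rw [if_pos h, if_neg h.asymm, zero_add, sympForm_swap, CharTwo.neg_eq]
    intro x y
    simpa [Forms.sympBilin_apply, LinearMap.BilinForm.flip_apply] using
      LinearMap.congr_fun (LinearMap.congr_fun this x) y
  let ψ : M →ₗ[F] Vec m F := ψ₀ + N.comp (ψ₀.comp c)
  have hψN : ∀ x, N (ψ x) = N (ψ₀ x) := fun x => by simp [ψ, hNN]
  have hψβ : ∀ x y, Cfsg.sympForm m F (ψ x) (N (ψ y)) = β x y := fun x y => by
    rw [hψN]
    simp only [ψ, LinearMap.add_apply, LinearMap.comp_apply, sympForm_add_left, hψ₀, hsa, hNN,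
      sympForm_zero_right', add_zero]
  have hψ0 : ∀ x y, Cfsg.sympForm m F (ψ x) (ψ y) = 0 := fun x y => by
    simp only [ψ, LinearMap.add_apply, LinearMap.comp_apply, sympForm_add_left, sympForm_add_right,
      hsa, hNN, sympForm_zero_right', add_zero, hψ₀]
    rw [hc, hs x, hc, ← hT]
    linear_combination (T x y + T y x) * (CharTwo.two_eq_zero (R := F))
  let Φ : M × M →ₗ[F] Vec m F := ψ.coprod (N.comp ψ)
  have hΦ : ∀ z, Φ z = ψ z.1 + N (ψ z.2) := fun z => rfl
  have hΦf : ∀ z z', Cfsg.sympForm m F (Φ z) (Φ z') = β z.1 z'.2 + β z.2 z'.1 := fun z z' => by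
    simp only [hΦ, sympForm_add_left, sympForm_add_right, hψ0, hψβ, hsa, hNN, sympForm_zero_right',
      add_zero, zero_add]
    ring
  -- the orthogonal complement
  have hr : ∀ y, ∃ x, N y = N (ψ x) := by
    have hinj : Function.Injective (N.comp ψ) := by
      rw [injective_iff_map_eq_zero]
      intro x hx
      refine hnd x fun y => ?_
      rw [hs, ← hψβ, show N (ψ x) = 0 from hx, sympForm_zero_right']
    have : LinearMap.range (N.comp ψ) = LinearMap.range N :=
      Submodule.eq_of_le_of_finrank_eq (LinearMap.range_comp_le_range _ _)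
        (by rw [LinearMap.finrank_range_of_inj hinj, ← hW, e.1.finrank_eq])
    intro y
    obtain ⟨x, hx⟩ : N y ∈ LinearMap.range (N.comp ψ) := this ▸ ⟨y, rfl⟩
    exact ⟨x, hx.symm⟩
  let U : Submodule F (Vec m F) :=
    { carrier := {v | ∀ z, Cfsg.sympForm m F v (Φ z) = 0}
      add_mem' := fun hu hv z => by rw [sympForm_add_left, hu z, hv z, add_zero]
      zero_mem' := fun z => sympForm_zero_left' _ _
      smul_mem' := fun s v hv z => by rw [sympForm_smul_left, hv z, mul_zero] }
  have hproj : ∀ v, ∃ z, v - Φ z ∈ U := fun v => by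
    let f1 : M →ₗ[F] F := (Forms.sympBilin m F v).comp (N.comp ψ)
    let f2 : M →ₗ[F] F := (Forms.sympBilin m F v).comp ψ
    refine ⟨(Φβ.symm f1, Φβ.symm f2), fun z' => ?_⟩
    have e1 : ∀ y, β (Φβ.symm f1) y = f1 y := fun y =>
      LinearMap.congr_fun (Φβ.apply_symm_apply f1) y
    have e2 : ∀ y, β (Φβ.symm f2) y = f2 y := fun y =>
      LinearMap.congr_fun (Φβ.apply_symm_apply f2) y
    rw [sympForm_sub_left, hΦf, e1, e2, hΦ, sympForm_add_right]
    simp only [f1, f2, LinearMap.comp_apply, Forms.sympBilin_apply]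
    ring
  have hUnd : ∀ x ∈ U, (∀ y ∈ U, Forms.sympBilin m F x y = 0) → x = 0 := fun x hx h =>
    Forms.sympForm_left_cancel fun v => by
      obtain ⟨z, hz⟩ := hproj v
      have := h _ hz
      rwa [Forms.sympBilin_apply, sympForm_sub_right, hx z, sub_zero] at this
  obtain ⟨r, j, hUr, hji, hj, hjf⟩ := exists_symplectic_map (Forms.sympBilin m F) U
    (fun x _ => by rw [Forms.sympBilin_apply, sympForm_self]) hUnd
  have hjU : ∀ u z, Cfsg.sympForm m F (j u) (Φ z) = 0 := fun u z => (hj _).2 ⟨u, rfl⟩ z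
  let E₀ : ((M × M) × Vec r F) →ₗ[F] Vec m F := Φ.coprod j
  have hE₀ : ∀ p, E₀ p = Φ p.1 + j p.2 := fun p => rfl
  have hEf : ∀ p p', Cfsg.sympForm m F (E₀ p) (E₀ p') = stdForm β r p p' := fun p p' => by
    have e' : Cfsg.sympForm m F (Φ p.1) (j p'.2) = 0 := by rw [sympForm_swap, hjU, neg_zero]
    have e'' : Cfsg.sympForm m F (j p.2) (j p'.2) = Cfsg.sympForm r F p.2 p'.2 :=
      (Forms.sympBilin_apply _ _).symm.trans (hjf _ _)
    rw [hE₀, hE₀, sympForm_add_left, sympForm_add_right, sympForm_add_right, hΦf, hjU, e', e'',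
      stdForm_apply]
    ring
  have hEb : Function.Bijective E₀ := by
    constructor
    · rw [injective_iff_map_eq_zero]
      intro p hp
      exact stdForm_nondeg β hs hnd r p fun p' => by rw [← hEf, hp, sympForm_zero_left']
    · intro v
      obtain ⟨z, hz⟩ := hproj v
      obtain ⟨u, hu⟩ := (hj _).1 hz
      exact ⟨(z, u), by rw [hE₀, hu]; abel⟩
  have hdim := (LinearEquiv.ofBijective E₀ hEb).finrank_eq
  rw [Module.finrank_prod, Module.finrank_prod, Module.finrank_pi, Module.finrank_pi,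
    Fintype.card_sum, Fintype.card_sum, Fintype.card_fin, Fintype.card_fin] at hdim
  refine ⟨r, by omega, ⟨⟨LinearEquiv.ofBijective E₀ hEb, hEf, fun p => ?_⟩⟩⟩
  show N (E₀ p) = E₀ (stdNil F M r p)
  rw [hE₀, hE₀, stdNil_apply, hΦ, hΦ]
  have hju : N (j p.2) = 0 := Invol2.eq_zero_of_sympForm fun y => by
    obtain ⟨x, hx⟩ := hr y
    rw [← hsa, hx, sympForm_swap, show Cfsg.sympForm m F (j p.2) (N (ψ x)) = 0 by
      simpa [hΦ] using hjU p.2 (0, x), neg_zero]
  simp [hNN, hju]

/-! ### The centraliser -/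

variable [Fintype F] [FiniteDimensional F M]

theorem card_matrix_add_transpose {ι : Type*} [Fintype ι] [DecidableEq ι] [LinearOrder ι] [CharP F 2]
    (A : ι → ι → F) (hA : ∀ i j, A i j = A j i) (hA0 : ∀ i, A i i = 0) :
    Nat.card {S : Matrix ι ι F // ∀ i j, S i j + S j i = A i j} =
      Fintype.card F ^ ((Fintype.card ι + 1).choose 2) := by
  let S₀ : Matrix ι ι F := Matrix.of fun i j => if i < j then A i j else 0
  have h0 : ∀ i j, S₀ i j + S₀ j i = A i j := fun i j => by
    simp only [S₀, Matrix.of_apply]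
    rcases lt_trichotomy i j with h | h | h
    · rw [if_pos h, if_neg h.asymm, add_zero]
    · subst h; simp [hA0]
    · rw [if_pos h, if_neg h.asymm, zero_add, hA]
  rw [show Nat.card {S : Matrix ι ι F // ∀ i j, S i j + S j i = A i j} =
      Nat.card {S : ι → ι → F // ∀ i j, S i j = S j i} from
    Nat.card_congr (Equiv.subtypeEquiv (Equiv.addRight (-S₀)) fun S => by
      refine forall₂_congr fun i j => ?_
      show _ ↔ S i j + -S₀ i j = S j i + -S₀ j i
      rw [CharTwo.neg_eq, CharTwo.neg_eq, ← h0 i j]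
      constructor
      · intro h
        linear_combination h - (S j i - S₀ i j) * (CharTwo.two_eq_zero (R := F)) -
          0 * S₀ j i
      · intro h
        linear_combination h + (S j i - S₀ i j) * (CharTwo.two_eq_zero (R := F))),
    Nat.card_congr Sym2.lift, Nat.card_fun, Nat.card_eq_fintype_card, Nat.card_eq_fintype_card,
    Sym2.card]

/-- The order of the centraliser. -/
theorem card_centralizer [CharP F 2] {m r : ℕ} (a : Sp m F)
    (hs : ∀ x y, β x y = β y x) (hnd : ∀ x, (∀ y, β x y = 0) → x = 0) (E : NormalForm β a r) :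
    Nat.card (Subgroup.centralizer ({a} : Set (Sp m F))) =
      Nat.card (Isom β β) * Nat.card (Sp r F) *
        (Fintype.card F ^ (finrank F M * (2 * r)) * Fintype.card F ^ ((finrank F M + 1).choose 2)) := by
  classical
  haveI : Finite M := Module.finite_of_finite F
  set σ := stdForm β r with hσ
  set N₀ := stdNil F M r with hN₀
  have hE : ∀ p, a • E.1 p = E.1 p + E.1 (N₀ p) := fun p => by
    rw [hN₀, ← E.2.2, nil_eq, add_sub_cancel]
  -- transport to the model
  have hm : Nat.card (Subgroup.centralizer ({a} : Set (Sp m F))) =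
      Nat.card {G : ((M × M) × Vec r F) →ₗ[F] (M × M) × Vec r F //
        (∀ p p', σ (G p) (G p') = σ p p') ∧ ∀ p, G (N₀ p) = N₀ (G p)} := by
    have fwd : ∀ g : Subgroup.centralizer ({a} : Set (Sp m F)),
        ∃ G : ((M × M) × Vec r F) →ₗ[F] (M × M) × Vec r F,
          (∀ p, E.1 (G p) = g.1 • E.1 p) ∧
          (∀ p p', σ (G p) (G p') = σ p p') ∧ ∀ p, G (N₀ p) = N₀ (G p) := by
      intro g
      refine ⟨E.1.symm.toLinearMap.comp ((DistribSMul.toLinearMap F (Vec m F) g.1).comp
        E.1.toLinearMap), fun p => by simp, fun p p' => ?_, fun p => ?_⟩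
      · rw [hσ, ← E.2.1, ← E.2.1]
        simp only [LinearMap.comp_apply, LinearEquiv.coe_coe, LinearEquiv.apply_symm_apply]
        exact sympForm_smul_smul g.1 _ _
      · apply E.1.injective
        simp only [LinearMap.comp_apply, LinearEquiv.coe_coe, LinearEquiv.apply_symm_apply,
          DistribSMul.toLinearMap_apply]
        rw [show E.1 (N₀ p) = a • E.1 p - E.1 p by rw [hE, add_sub_cancel_left], smul_sub,
          ← mul_smul, Subgroup.mem_centralizer_singleton_iff.1 g.2, mul_smul, hN₀, ← E.2.2, nil_eq,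
          E.1.apply_symm_apply]
    choose G hG hG1 hG2 using fwd
    refine Nat.card_congr (Equiv.ofBijective (fun g => ⟨G g, hG1 g, hG2 g⟩) ⟨fun g g' e => ?_,
      fun H => ?_⟩)
    · refine Subtype.ext (Symplectic.eq_of_smul_eq fun v => ?_)
      obtain ⟨p, rfl⟩ := E.1.surjective v
      rw [← hG g, ← hG g', show G g = G g' from congrArg Subtype.val e]
    · let L : Vec m F →ₗ[F] Vec m F := E.1.toLinearMap.comp (H.1.comp E.1.symm.toLinearMap)
      have hL : ∀ p, L (E.1 p) = E.1 (H.1 p) := fun p => by simp [L]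
      have hLf : ∀ u v, Cfsg.sympForm m F (L u) (L v) = Cfsg.sympForm m F u v := fun u v => by
        obtain ⟨p, rfl⟩ := E.1.surjective u
        obtain ⟨p', rfl⟩ := E.1.surjective v
        rw [hL, hL, E.2.1, E.2.1, H.2.1]
      have hg : ∀ v, Forms.spOfLinearMap L hLf • v = L v := fun v => Forms.spOfLinearMap_smul _ _ v
      refine ⟨⟨Forms.spOfLinearMap L hLf, Subgroup.mem_centralizer_singleton_iff.2 ?_⟩,
        Subtype.ext (LinearMap.ext fun p => E.1.injective ?_)⟩
      · refine Symplectic.eq_of_smul_eq fun v => ?_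
        obtain ⟨p, rfl⟩ := E.1.surjective v
        rw [mul_smul, mul_smul, hg, hg, hE, map_add, hL, hL, H.2.2, hE]
      · rw [hG, hg, hL]
  rw [hm]
  -- parametrisation
  let Φβ : M ≃ₗ[F] (M →ₗ[F] F) := LinearEquiv.ofBijective β
    ⟨(injective_iff_map_eq_zero β).2 fun x h => hnd x fun y => by rw [h]; rfl,
      (LinearMap.injective_iff_surjective_of_finrank_eq_finrank
        (Subspace.dual_finrank_eq (K := F) (V := M)).symm).1
        ((injective_iff_map_eq_zero β).2 fun x h => hnd x fun y => by rw [h]; rfl)⟩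
  let P := Σ s : (Isom β β × Sp r F) × (M →ₗ[F] Vec r F),
    {c : M →ₗ[F] M // ∀ x x', β (s.1.1.1 x) (c x') + β (c x) (s.1.1.1 x') +
      Cfsg.sympForm r F (s.2 x) (s.2 x') = 0}
  have hcard : Nat.card P = Nat.card (Isom β β) * Nat.card (Sp r F) *
      (Fintype.card F ^ (finrank F M * (2 * r)) * Fintype.card F ^ ((finrank F M + 1).choose 2)) := by
    haveI : Finite (M ≃ₗ[F] M) := Finite.of_injective (fun e => (e : M → M)) DFunLike.coe_injective
    haveI : Fintype (Isom β β) := Fintype.ofFinite _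
    haveI : Finite (M →ₗ[F] M) := Module.finite_of_finite F
    haveI : Finite (M →ₗ[F] Vec r F) := Module.finite_of_finite F
    haveI : Fintype (M →ₗ[F] Vec r F) := Fintype.ofFinite _
    rw [Nat.card_sigma, Finset.sum_eq_card_nsmul (b := Fintype.card F ^ ((finrank F M + 1).choose 2))
      (fun s _ => ?_)]
    · rw [Finset.card_univ, ← Nat.card_eq_fintype_card, Nat.card_prod, Nat.card_prod,
        Module.natCard_eq_pow_finrank (K := F) (V := M →ₗ[F] Vec r F), Module.finrank_linearMap,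
        Module.finrank_pi, Fintype.card_sum, Fintype.card_fin, Nat.card_eq_fintype_card (α := F),
        smul_eq_mul, two_mul]
      ring
    obtain ⟨⟨o, h⟩, d⟩ := s
    let b : Module.Basis (Fin (finrank F M)) F M := Module.finBasis F M
    let L : M ≃ₗ[F] (M →ₗ[F] F) := Φβ.trans o.1.dualMap
    let Γ : (M →ₗ[F] M) ≃ₗ[F] Matrix (Fin (finrank F M)) (Fin (finrank F M)) F :=
      (LinearEquiv.congrRight L).trans (LinearMap.BilinForm.toMatrix b)
    have hΓ : ∀ c i j, Γ c i j = β (c (b i)) (o.1 (b j)) := fun c i j =>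
      LinearMap.BilinForm.toMatrix_apply b _ i j
    have h1 : Nat.card {c : M →ₗ[F] M // ∀ x x', β (o.1 x) (c x') + β (c x) (o.1 x') +
        Cfsg.sympForm r F (d x) (d x') = 0} = Nat.card {S : Matrix _ _ F //
          ∀ i j, S i j + S j i = Cfsg.sympForm r F (d (b i)) (d (b j))} := by
      refine Nat.card_congr (Equiv.subtypeEquiv Γ.toEquiv fun c => ⟨fun hc i j => ?_, fun hc => ?_⟩)
      · show Γ c i j + Γ c j i = _
        rw [hΓ, hΓ, ← CharTwo.neg_eq (Cfsg.sympForm r F _ _), ← add_eq_zero_iff_eq_neg,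
          add_comm (β (c (b i)) _), hs (c (b j))]
        exact hc (b i) (b j)
      · let Q : BilinForm F M := β.compl₁₂ o.1.toLinearMap c + β.compl₁₂ c o.1.toLinearMap +
          (Forms.sympBilin r F).compl₁₂ d d
        have hQ : Q = 0 := by
          refine LinearMap.BilinForm.ext_basis b fun i j => ?_
          simp only [Q, LinearMap.add_apply, LinearMap.compl₁₂_apply, LinearMap.zero_apply,
            LinearEquiv.coe_coe, Forms.sympBilin_apply]
          have := hc i j
          change Γ c i j + Γ c j i = _ at this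
          rw [hΓ, hΓ] at this
          rw [hs (o.1 (b i)), ← this]
          linear_combination (β (c (b i)) (o.1 (b j)) + β (c (b j)) (o.1 (b i))) *
            (CharTwo.two_eq_zero (R := F))
        intro x x'
        simpa [Q, Forms.sympBilin_apply] using LinearMap.congr_fun (LinearMap.congr_fun hQ x) x'
    rw [h1, card_matrix_add_transpose (fun i j => Cfsg.sympForm r F (d (b i)) (d (b j))) (fun i j => by rw [sympForm_swap, CharTwo.neg_eq])
      (fun i => sympForm_self _), Fintype.card_fin]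
  rw [← hcard]
  symm
  let eMap : (Isom β β × Sp r F) × (M →ₗ[F] Vec r F) → (Vec r F →ₗ[F] M) := fun s =>
    Φβ.symm.toLinearMap.comp (((Forms.sympBilin r F).compl₁₂ (s.2.comp s.1.1.1.symm.toLinearMap)
      (DistribSMul.toLinearMap F (Vec r F) s.1.2)).flip)
  have he : ∀ s u x, β (eMap s u) (s.1.1.1 x) = Cfsg.sympForm r F (s.2 x) (s.1.2 • u) := fun s u x => by
    refine (LinearMap.congr_fun (Φβ.apply_symm_apply _) _).trans ?_
    simp
    exact Forms.sympBilin_apply _ _
  let θf : P → ((M × M) × Vec r F) →ₗ[F] (M × M) × Vec r F := fun q =>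
    { toFun := fun p => ((q.1.1.1.1 p.1.1, q.2.1 p.1.1 + q.1.1.1.1 p.1.2 + eMap q.1 p.2),
        q.1.2 p.1.1 + q.1.1.2 • p.2)
      map_add' := fun p p' => by
        simp only [Prod.fst_add, Prod.snd_add, map_add, smul_add, Prod.mk_add_mk]
        refine Prod.ext (Prod.ext rfl ?_) ?_ <;> (simp only; abel)
      map_smul' := fun c p => by
        simp only [Prod.smul_fst, Prod.smul_snd, map_smul, RingHom.id_apply, Prod.smul_mk, smul_add,
          smul_comm q.1.1.2] }
  have hθ : ∀ q p, θf q p = ((q.1.1.1.1 p.1.1, q.2.1 p.1.1 + q.1.1.1.1 p.1.2 + eMap q.1 p.2),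
        q.1.2 p.1.1 + q.1.1.2 • p.2) := fun _ _ => rfl
  have hθ1 : ∀ q p p', σ (θf q p) (θf q p') = σ p p' := fun q p p' => by
    rw [hσ, hθ, hθ, stdForm_apply, stdForm_apply]
    simp only [map_add, LinearMap.add_apply, sympForm_add_left, sympForm_add_right,
      q.1.1.1.2, sympForm_smul_smul q.1.1.2, hs (q.1.1.1.1 p.1.1) (eMap q.1 p'.2), he,
      sympForm_swap (q.1.1.2 • p.2) (q.1.2 p'.1.1)]
    linear_combination q.2.2 p.1.1 p'.1.1 +
      (Cfsg.sympForm r F (q.1.2 p.1.1) (q.1.1.2 • p'.2)) * (CharTwo.two_eq_zero (R := F))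
  have hθ2 : ∀ q p, θf q (N₀ p) = N₀ (θf q p) := fun q p => by
    rw [hN₀, hθ, hθ, stdNil_apply, stdNil_apply]
    simp
  refine Nat.card_congr (Equiv.ofBijective (fun q => ⟨θf q, hθ1 q, hθ2 q⟩) ⟨?_, ?_⟩)
  · rintro ⟨⟨⟨o, h⟩, d⟩, c⟩ ⟨⟨⟨o', h'⟩, d'⟩, c'⟩ e
    have e' : ∀ p, θf ⟨((o, h), d), c⟩ p = θf ⟨((o', h'), d'), c'⟩ p := fun p =>
      LinearMap.congr_fun (congrArg Subtype.val e) p
    simp only [hθ] at e'
    obtain rfl : o = o' := Subtype.ext (LinearEquiv.ext fun x => by
      simpa using congrArg (fun z => z.1.1) (e' ((x, 0), 0)))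
    obtain rfl : d = d' := LinearMap.ext fun x => by
      simpa using congrArg Prod.snd (e' ((x, 0), 0))
    obtain rfl : h = h' := Symplectic.eq_of_smul_eq fun u => by
      simpa using congrArg Prod.snd (e' ((0, 0), u))
    obtain rfl : c = c' := Subtype.ext (LinearMap.ext fun x => by
      simpa using congrArg (fun z => z.1.2) (e' ((x, 0), 0)))
    rfl
  rintro ⟨G, hG1, hG2⟩
  let ι₁ : M →ₗ[F] (M × M) × Vec r F :=
    (LinearMap.inl F (M × M) (Vec r F)).comp (LinearMap.inl F M M)
  let ι₃ : Vec r F →ₗ[F] (M × M) × Vec r F := LinearMap.inr F (M × M) (Vec r F)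
  let o₀ : M →ₗ[F] M :=
    (LinearMap.fst F M M).comp ((LinearMap.fst F (M × M) (Vec r F)).comp (G.comp ι₁))
  let c : M →ₗ[F] M :=
    (LinearMap.snd F M M).comp ((LinearMap.fst F (M × M) (Vec r F)).comp (G.comp ι₁))
  let d : M →ₗ[F] Vec r F := (LinearMap.snd F (M × M) (Vec r F)).comp (G.comp ι₁)
  let h₀ : Vec r F →ₗ[F] Vec r F := (LinearMap.snd F (M × M) (Vec r F)).comp (G.comp ι₃)
  have g1 : ∀ x, G ((x, 0), 0) = ((o₀ x, c x), d x) := fun x => rfl
  have g2 : ∀ y, G ((0, y), 0) = ((0, o₀ y), 0) := fun y => by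
    have := hG2 ((y, 0), 0)
    rwa [g1, hN₀, stdNil_apply, stdNil_apply] at this
  have g3 : ∀ u, ∃ w, G ((0, 0), u) = ((0, w), h₀ u) := fun u => by
    refine ⟨(G ((0, 0), u)).1.2, Prod.ext (Prod.ext ?_ rfl) rfl⟩
    have := hG2 ((0, 0), u)
    rw [hN₀, stdNil_apply, stdNil_apply, show (((0 : M), (0 : M)), (0 : Vec r F)) = 0 from rfl,
      map_zero] at this
    exact (congrArg (fun z => z.1.2) this).symm
  have ho : ∀ x y, β (o₀ x) (o₀ y) = β x y := fun x y => by
    have := hG1 ((x, 0), 0) ((0, y), 0)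
    rw [g1, g2] at this
    simpa [hσ, stdForm_apply, sympForm_zero_right'] using this
  have hoi : Function.Injective o₀ := (injective_iff_map_eq_zero o₀).2 fun x hx =>
    hnd x fun y => by rw [← ho, hx, map_zero, LinearMap.zero_apply]
  let o : Isom β β :=
    ⟨LinearEquiv.ofBijective o₀ ⟨hoi, LinearMap.surjective_of_injective hoi⟩, ho⟩
  have hh : ∀ u v, Cfsg.sympForm r F (h₀ u) (h₀ v) = Cfsg.sympForm r F u v := fun u v => by
    obtain ⟨w, hw⟩ := g3 u
    obtain ⟨w', hw'⟩ := g3 v
    have := hG1 ((0, 0), u) ((0, 0), v)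
    rw [hw, hw'] at this
    simpa [hσ, stdForm_apply] using this
  set h : Sp r F := Forms.spOfLinearMap h₀ hh with hhdef
  have hsm : ∀ u, h • u = h₀ u := fun u => Forms.spOfLinearMap_smul _ _ u
  have hc : ∀ x x', β (o.1 x) (c x') + β (c x) (o.1 x') + Cfsg.sympForm r F (d x) (d x') = 0 :=
    fun x x' => by
      have := hG1 ((x, 0), 0) ((x', 0), 0)
      rw [g1, g1] at this
      show β (o₀ x) (c x') + β (c x) (o₀ x') + Cfsg.sympForm r F (d x) (d x') = 0
      simpa [hσ, stdForm_apply, sympForm_zero_right'] using this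
  refine ⟨⟨((o, h), d), ⟨c, hc⟩⟩, Subtype.ext (LinearMap.ext fun p => ?_)⟩
  show θf _ p = G p
  have hp : p = (((p.1.1, 0), 0) : (M × M) × Vec r F) + ((0, p.1.2), 0) + ((0, 0), p.2) :=
    Prod.ext (Prod.ext (by simp) (by simp)) (by simp)
  obtain ⟨w, hw⟩ := g3 p.2
  have hwe : eMap ((o, h), d) p.2 = w := by
    refine sub_eq_zero.1 (hnd _ fun y => ?_)
    obtain ⟨x, rfl⟩ := o.1.surjective y
    have hx : β (o.1 x) w + Cfsg.sympForm r F (d x) (h₀ p.2) = 0 := by
      have := hG1 ((x, 0), 0) ((0, 0), p.2)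
      rw [g1, hw] at this
      show β (o₀ x) w + Cfsg.sympForm r F (d x) (h₀ p.2) = 0
      simpa [hσ, stdForm_apply, sympForm_zero_right', sympForm_zero_left'] using this
    have he' := he ((o, h), d) p.2 x
    rw [show ((((o, h), d) : (Isom β β × Sp r F) × (M →ₗ[F] Vec r F)).1.1.1 x) = o.1 x from rfl,
      hsm] at he'
    rw [map_sub, LinearMap.sub_apply, he', hs w, CharTwo.sub_eq_add]
    linear_combination hx
  rw [hθ]
  conv_rhs => rw [hp, map_add, map_add, g1, g2, hw]
  simp only [Prod.mk_add_mk, add_zero, zero_add, hwe, hsm]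
  rfl

end Cfsg.Agent.Classical10.SpInvolTwo
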